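import Mathlib.RingTheory.Flat.Basic
import Mathlib.RingTheory.Ideal.AssociatedPrime.Finiteness
import Mathlib.RingTheory.Localization.BaseChange
import Mathlib.RingTheory.Localization.AtPrime.Basic
import Mathlib.RingTheory.LocalRing.ResidueField.Ideal
import Mathlib.LinearAlgebra.TensorProduct.Finiteness
import Mathlib.LinearAlgebra.TensorProduct.RightExactness
import Mathlib.RingTheory.Finiteness.Ideal

/-!
Exactness of `X ⊗ F` in high degrees, `F` a complex of flat modules over a Noetherian ring, is tested on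
residue fields.
-/

set_option autoImplicit false

universe u

open scoped TensorProduct

namespace Groth.Agent.TorDev

variable {A : Type u} [CommRing A] (F : ℕ → Type u) [∀ j, AddCommGroup (F j)] [∀ j, Module A (F j)]
  (d : ∀ j, F (j + 1) →ₗ[A] F j)

/-- Exactness of `X ⊗ F` at `F (j+1)`. -/
def Ex (X : Type u) [AddCommGroup X] [Module A X] (j : ℕ) : Prop :=
  Function.Exact ((d (j + 1)).lTensor X) ((d j).lTensor X)

variable {F d}

theorem natural {X X' : Type u} [AddCommGroup X] [Module A X] [AddCommGroup X'] [Module A X'] (f : X →ₗ[A] X')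
    (j : ℕ) (z : X ⊗[A] F (j + 1)) : (d j).lTensor X' (f.rTensor _ z) = f.rTensor _ ((d j).lTensor X z) := by
  rw [← LinearMap.comp_apply, LinearMap.lTensor_comp_rTensor, ← LinearMap.rTensor_comp_lTensor, LinearMap.comp_apply]

variable (hdd : ∀ j, d j ∘ₗ d (j + 1) = 0)
include hdd

theorem dd {X : Type u} [AddCommGroup X] [Module A X] (j : ℕ) (z : X ⊗[A] F (j + 1 + 1)) :
    (d j).lTensor X ((d (j + 1)).lTensor X z) = 0 := by
  rw [← LinearMap.comp_apply, ← LinearMap.lTensor_comp, hdd, LinearMap.lTensor_zero, LinearMap.zero_apply]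

variable [∀ j, Module.Flat A (F j)]

theorem ex_middle {X₁ X₂ X₃ : Type u} [AddCommGroup X₁] [Module A X₁] [AddCommGroup X₂] [Module A X₂] [AddCommGroup X₃]
    [Module A X₃] {f : X₁ →ₗ[A] X₂} {g : X₂ →ₗ[A] X₃} (hf : Function.Injective f) (hg : Function.Surjective g)
    (h : Function.Exact f g) (j : ℕ) (h₁ : Ex F d X₁ j) (h₃ : Ex F d X₃ j) : Ex F d X₂ j := by
  intro z
  refine ⟨fun hz => ?_, fun ⟨w, hw⟩ => hw ▸ dd hdd j w⟩
  obtain ⟨w, hw⟩ := (h₃ (g.rTensor _ z)).1 (by rw [natural, hz, map_zero])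
  obtain ⟨w', rfl⟩ := LinearMap.rTensor_surjective (F (j + 1 + 1)) hg w
  rw [natural] at hw
  obtain ⟨t, ht⟩ := (rTensor_exact (F (j + 1)) h hg (z - (d (j + 1)).lTensor X₂ w')).1 (by rw [map_sub, hw, sub_self])
  have htz : (d j).lTensor X₁ t = 0 := by
    apply Module.Flat.rTensor_preserves_injective_linearMap (M := F j) f hf
    rw [← natural, ht, map_sub, hz, dd hdd, sub_self, map_zero]
  obtain ⟨v, rfl⟩ := (h₁ t).1 htz
  refine ⟨w' + f.rTensor _ v, ?_⟩
  rw [map_add, natural, ht, add_sub_cancel]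

theorem smul_injective {X Y : Type u} [AddCommGroup X] [Module A X] [AddCommGroup Y] [Module A Y] (a : A)
    (ha : Function.Injective (a • LinearMap.id : X →ₗ[A] X)) {g : X →ₗ[A] Y} (hg : Function.Surjective g)
    (h : Function.Exact (a • LinearMap.id : X →ₗ[A] X) g) (j : ℕ) (h₃ : Ex F d Y (j + 1))
    (z : X ⊗[A] F (j + 1)) (haz : ∃ w, (d (j + 1)).lTensor X w = a • z) :
    ∃ w, (d (j + 1)).lTensor X w = z := by
  obtain ⟨w, hw⟩ := haz
  have hs : ∀ (k : ℕ) (y : X ⊗[A] F k), (a • LinearMap.id : X →ₗ[A] X).rTensor (F k) y = a • y := fun k y => by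
    rw [LinearMap.rTensor_smul, LinearMap.rTensor_id, LinearMap.smul_apply, LinearMap.id_apply]
  obtain ⟨v, hv⟩ := (h₃ (g.rTensor _ w)).1 (by
    rw [natural, hw, ← hs, ← LinearMap.comp_apply, ← LinearMap.rTensor_comp, h.linearMap_comp_eq_zero, LinearMap.rTensor_zero,
      LinearMap.zero_apply])
  obtain ⟨v', rfl⟩ := LinearMap.rTensor_surjective (F (j + 1 + 1 + 1)) hg v
  rw [natural] at hv
  obtain ⟨t, ht⟩ := (rTensor_exact (F (j + 1 + 1)) h hg (w - (d (j + 1 + 1)).lTensor X v')).1 (by rw [map_sub, hv, sub_self])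
  refine ⟨t, Module.Flat.rTensor_preserves_injective_linearMap (M := F (j + 1)) _ ha ?_⟩
  rw [← natural, ht, map_sub, hw, dd hdd, sub_zero, hs]

/-- Exactness in all degrees `≥ n` for every module, from exactness at the residue fields. -/
theorem ex_of_residueField [IsNoetherianRing A] (n : ℕ)
    (hκ : ∀ (p : PrimeSpectrum A) (j : ℕ), n ≤ j → Ex F d p.asIdeal.ResidueField j)
    (X : Type u) [AddCommGroup X] [Module A X] (j : ℕ) (hj : n ≤ j) : Ex F d X j := by
  classical
  have hprime : ∀ p : PrimeSpectrum A, ∀ j, n ≤ j → Ex F d (A ⧸ p.asIdeal) j := by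
    intro p
    induction p using (InvImage.wf PrimeSpectrum.asIdeal (wellFounded_gt (α := Ideal A))).induction with
    | _ p ih =>
      intro j hj
      let ι : (A ⧸ p.asIdeal) →ₗ[A] p.asIdeal.ResidueField := (IsScalarTower.toAlgHom A (A ⧸ p.asIdeal) p.asIdeal.ResidueField).toLinearMap
      haveI : IsFractionRing (A ⧸ p.asIdeal) p.asIdeal.ResidueField := inferInstance
      haveI hloc : IsLocalizedModule p.asIdeal.primeCompl ι := by
        haveI : IsLocalization (Algebra.algebraMapSubmonoid (A ⧸ p.asIdeal) p.asIdeal.primeCompl) p.asIdeal.ResidueField := by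
          have heq : Algebra.algebraMapSubmonoid (A ⧸ p.asIdeal) p.asIdeal.primeCompl = nonZeroDivisors (A ⧸ p.asIdeal) := by
            ext x
            rw [mem_nonZeroDivisors_iff_ne_zero]
            constructor
            · rintro ⟨r, hr, rfl⟩
              exact fun h0 => hr (Ideal.Quotient.eq_zero_iff_mem.1 h0)
            · intro hx
              obtain ⟨r, rfl⟩ := Ideal.Quotient.mk_surjective x
              exact ⟨r, fun hr => hx (Ideal.Quotient.eq_zero_iff_mem.2 hr), rfl⟩
          rw [heq]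
          exact inferInstanceAs (IsFractionRing (A ⧸ p.asIdeal) p.asIdeal.ResidueField)
        exact isLocalizedModule_iff_isLocalization.mpr this
      haveI : ∀ k, IsLocalizedModule p.asIdeal.primeCompl (ι.rTensor (F k)) := fun k =>
        IsLocalizedModule.rTensor (R := A) A p.asIdeal.primeCompl (N := F k) ι
      intro z
      refine ⟨fun hz => ?_, fun ⟨w, hw⟩ => hw ▸ dd hdd j w⟩
      obtain ⟨w, hw⟩ := (hκ p j hj (ι.rTensor _ z)).1 (by rw [natural, hz, map_zero])
      obtain ⟨⟨y, s⟩, hys⟩ := IsLocalizedModule.surj p.asIdeal.primeCompl (ι.rTensor (F (j + 1 + 1))) w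
      have h1 : ι.rTensor (F (j + 1)) ((d (j + 1)).lTensor _ y) = ι.rTensor (F (j + 1)) ((s : A) • z) := by
        rw [← natural, ← hys, Submonoid.smul_def, map_smul, map_smul, hw]
      obtain ⟨c, hc⟩ := (IsLocalizedModule.eq_iff_exists p.asIdeal.primeCompl (ι.rTensor (F (j + 1)))).1 h1
      have hne : ((c : A) * (s : A)) ∉ p.asIdeal := (c * s).2
      let a : A := (c : A) * (s : A)
      let Y := A ⧸ (p.asIdeal ⊔ Ideal.span {a})
      let g : (A ⧸ p.asIdeal) →ₗ[A] Y := Submodule.factor le_sup_left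
      have hY : ∀ k, n ≤ k → Ex F d Y k := fun k hk => by
        refine (IsNoetherianRing.induction_on_isQuotientEquivQuotientPrime A (M := Y) inferInstance
          (motive := fun N _ _ _ => (p.asIdeal ⊔ Ideal.span {a} ≤ Module.annihilator A N) → Ex F d N k)
          ?_ ?_ ?_) (by rw [Ideal.annihilator_quotient])
        · intro N _ _ _ _ _ x
          exact ⟨fun _ => ⟨0, Subsingleton.elim _ _⟩, fun _ => Subsingleton.elim _ _⟩
        · intro N _ _ _ q e hN
          have hq : p.asIdeal ⊔ Ideal.span {a} ≤ q.asIdeal := by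
            rw [e.annihilator_eq, Ideal.annihilator_quotient] at hN
            exact hN
          have hlt : p.asIdeal < q.asIdeal := lt_of_le_of_ne (le_sup_left.trans hq) fun h => hne (show (c : A) * (s : A) ∈ p.asIdeal from h.ge (hq (Submodule.mem_sup_right (Ideal.mem_span_singleton_self a))))
          have := ih q hlt k hk
          exact (Function.Exact.iff_of_ladder_linearEquiv (e₁ := e.rTensor _) (e₂ := e.rTensor _) (e₃ := e.rTensor _)
            (LinearMap.ext fun x => natural e.toLinearMap (k + 1) x) (LinearMap.ext fun x => natural e.toLinearMap k x)).1 this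
        · intro N₁ _ _ _ N₂ _ _ _ N₃ _ _ _ f g hf hg h h₁ h₃ hN
          exact ex_middle hdd hf hg h k (h₁ (hN.trans (f.annihilator_le_of_injective hf)))
            (h₃ (hN.trans (g.annihilator_le_of_surjective hg)))
      refine smul_injective hdd a ?_ (g := g) (Submodule.factor_surjective le_sup_left) ?_ j (hY (j + 1) (hj.trans j.le_succ)) z
        ⟨(c : A) • y, ?_⟩
      · intro x y hxy
        simp only [LinearMap.smul_apply, LinearMap.id_apply] at hxy
        obtain ⟨x, rfl⟩ := Ideal.Quotient.mk_surjective x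
        obtain ⟨y, rfl⟩ := Ideal.Quotient.mk_surjective y
        change Ideal.Quotient.mk p.asIdeal (a * x) = Ideal.Quotient.mk p.asIdeal (a * y) at hxy
        rw [Ideal.Quotient.eq, ← mul_sub] at hxy
        exact Ideal.Quotient.eq.2 ((p.isPrime.mem_or_mem hxy).resolve_left hne)
      · intro x
        obtain ⟨x, rfl⟩ := Ideal.Quotient.mk_surjective x
        show Ideal.Quotient.mk _ x = 0 ↔ _
        rw [Ideal.Quotient.eq_zero_iff_mem, Submodule.mem_sup]
        constructor
        · rintro ⟨u, hu, v, hv, rfl⟩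
          obtain ⟨r, rfl⟩ := Ideal.mem_span_singleton'.1 hv
          refine ⟨Ideal.Quotient.mk _ r, ?_⟩
          show Ideal.Quotient.mk p.asIdeal (a * r) = _
          rw [Ideal.Quotient.eq]
          simpa [mul_comm a r] using hu
        · rintro ⟨r, hr⟩
          obtain ⟨r, rfl⟩ := Ideal.Quotient.mk_surjective r
          change Ideal.Quotient.mk p.asIdeal (a * r) = _ at hr
          rw [Ideal.Quotient.eq] at hr
          exact ⟨x - a * r, by simpa using neg_mem hr, a * r, Ideal.mem_span_singleton'.2 ⟨r, mul_comm r a⟩, sub_add_cancel x _⟩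
      · rw [map_smul, show (c : A) • ((d (j + 1)).lTensor _ y) = (c : A) • ((s : A) • z) from hc, smul_smul]
  have hfin : ∀ (N : Type u) [AddCommGroup N] [Module A N] [Module.Finite A N] (k : ℕ), n ≤ k → Ex F d N k := fun N _ _ _ k hk => by
    refine IsNoetherianRing.induction_on_isQuotientEquivQuotientPrime A (M := N) inferInstance
      (motive := fun N _ _ _ => Ex F d N k) ?_ ?_ ?_
    · intro N _ _ _ _ x
      exact ⟨fun _ => ⟨0, Subsingleton.elim _ _⟩, fun _ => Subsingleton.elim _ _⟩
    · intro N _ _ _ q e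
      exact (Function.Exact.iff_of_ladder_linearEquiv (e₁ := e.rTensor _) (e₂ := e.rTensor _) (e₃ := e.rTensor _)
        (LinearMap.ext fun x => natural e.toLinearMap (k + 1) x) (LinearMap.ext fun x => natural e.toLinearMap k x)).1
        (hprime q k hk)
    · intro N₁ _ _ _ N₂ _ _ _ N₃ _ _ _ f g hf hg h h₁ h₃
      exact ex_middle hdd hf hg h k h₁ h₃
  intro z
  refine ⟨fun hz => ?_, fun ⟨w, hw⟩ => hw ▸ dd hdd j w⟩
  obtain ⟨N, hN, hzN⟩ := TensorProduct.exists_finite_submodule_left_of_setFinite {z} (Set.finite_singleton z)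
  obtain ⟨z', rfl⟩ := hzN rfl
  have h0 : (d j).lTensor N z' = 0 := by
    apply Module.Flat.rTensor_preserves_injective_linearMap (M := F j) N.subtype N.injective_subtype
    rw [← natural, hz, map_zero]
  obtain ⟨w, rfl⟩ := (hfin N j hj z').1 h0
  exact ⟨N.subtype.rTensor _ w, natural _ _ _⟩

end Groth.Agent.TorDev
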